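import Groth.Agent.Lib.DerCat.MapAdj
import Groth.Agent.Lib.DerCat.MapHomology

/-!
# The counit of an adjunction of exact functors on derived categories
-/

set_option autoImplicit false
set_option backward.isDefEq.respectTransparency false

universe w w' v v' u u'

open CategoryTheory CategoryTheory.Limits

namespace GrothLib.Tors7

variable {A : Type u} [Category.{v} A] [Abelian A] [HasDerivedCategory.{w} A]
  {B : Type u'} [Category.{v'} B] [Abelian B] [HasDerivedCategory.{w'} B]
  {L : B ⥤ A} {R : A ⥤ B} [L.Additive] [R.Additive]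
  [PreservesFiniteLimits L] [PreservesFiniteColimits L] [PreservesFiniteLimits R] [PreservesFiniteColimits R]
  (adj : L ⊣ R)

/-- The counit is invertible on complexes on whose cohomology it is invertible. -/
theorem isIso_counit_mapDerivedAdj (X : DerivedCategory A)
    (hX : ∀ i : ℤ, IsIso (adj.counit.app ((DerivedCategory.homologyFunctor A i).obj X))) :
    IsIso ((DerCat.mapDerivedAdj adj).counit.app X) := by
  obtain ⟨K, ⟨e⟩⟩ : ∃ K, Nonempty (DerivedCategory.Q.obj K ≅ X) :=
    ⟨DerivedCategory.Q.objPreimage X, ⟨DerivedCategory.Q.objObjPreimageIso X⟩⟩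
  rw [← NatTrans.isIso_app_iff_of_iso (DerCat.mapDerivedAdj adj).counit e]
  have hK : ∀ i : ℤ, IsIso (adj.counit.app (K.sc i).homology) := fun i =>
    (NatTrans.isIso_app_iff_of_iso adj.counit
      ((DerivedCategory.homologyFunctor A i).mapIso e.symm ≪≫ (DerivedCategory.homologyFunctorFactors A i).app K)).1
      (hX i)
  have hq : QuasiIso ((KInj.mapComplexAdj adj (ComplexShape.up ℤ)).counit.app K) := by
    refine ⟨fun i => ?_⟩
    rw [quasiIsoAt_iff, ShortComplex.quasiIso_iff]
    have h1 := NatTrans.app_homology adj.counit (K.sc i)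
    haveI := hK i
    have h2 : ShortComplex.homologyMap ((K.sc i).mapNatTrans adj.counit) =
        ((K.sc i).mapHomologyIso (R ⋙ L)).hom ≫ adj.counit.app (K.sc i).homology ≫
          ((K.sc i).mapHomologyIso (𝟭 A)).inv := by
      rw [h1]
      simp
    show IsIso (ShortComplex.homologyMap ((K.sc i).mapNatTrans adj.counit))
    rw [h2]
    infer_instance
  letI : CatCommSq (L.mapHomologicalComplex (ComplexShape.up ℤ)) DerivedCategory.Q DerivedCategory.Q
      L.mapDerivedCategory := ⟨L.mapDerivedCategoryFactors.symm⟩
  letI : CatCommSq (R.mapHomologicalComplex (ComplexShape.up ℤ)) DerivedCategory.Q DerivedCategory.Q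
      R.mapDerivedCategory := ⟨R.mapDerivedCategoryFactors.symm⟩
  rw [show (DerCat.mapDerivedAdj adj).counit.app (DerivedCategory.Q.obj K) = _ from
    Adjunction.localization_counit_app _ _ _ _ _ _ _ K]
  have : IsIso (DerivedCategory.Q.map ((KInj.mapComplexAdj adj (ComplexShape.up ℤ)).counit.app K)) :=
    Localization.inverts DerivedCategory.Q (HomologicalComplex.quasiIso A (ComplexShape.up ℤ)) _ hq
  infer_instance

/-- A right adjoint is bijective on morphisms out of objects with invertible counit. -/
theorem bijective_map_of_isIso_counit {C D : Type*} [Category C] [Category D] {L : C ⥤ D} {R : D ⥤ C}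
    (adj : L ⊣ R) {G : D} [IsIso (adj.counit.app G)] (H : D) :
    Function.Bijective (fun φ : G ⟶ H => R.map φ) := by
  refine ⟨fun φ ψ hφ => ?_, fun γ => ⟨inv (adj.counit.app G) ≫ L.map γ ≫ adj.counit.app H, ?_⟩⟩
  · have h1 := adj.counit.naturality φ
    have h2 := adj.counit.naturality ψ
    simp only [Functor.comp_map, Functor.id_map] at h1 h2
    rw [show R.map φ = R.map ψ from hφ, h2] at h1
    exact ((cancel_epi (adj.counit.app G)).1 h1).symm
  · refine (adj.homEquiv (R.obj G) H).symm.injective ?_
    simp [Adjunction.homEquiv_counit]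

end GrothLib.Tors7
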