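import Groth.Agent.Lib.Tors7.QC
import Groth.Agent.Lib.Tors7.DerGen
import Groth.Prelude.Def_SiteCmp

/-!
# The completion morphism on derived categories
-/

set_option autoImplicit false
set_option linter.style.haveILetI false
set_option linter.unusedSectionVars false
set_option backward.isDefEq.respectTransparency false
universe u

open CategoryTheory CategoryTheory.Limits AlgebraicGeometry TopologicalSpace Opposite

attribute [local instance] HasDerivedCategory.standard

noncomputable section

namespace GrothLib.Tors7

open GrothLib.FMod7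

variable {X : Scheme.{u}} [IsLocallyNoetherian X] {𝓘 : X.IdealSheafData}
  {h : (FSch.completionAlong X 𝓘).IsFormal}

instance preservesFiniteColimits_push : PreservesFiniteColimits (complMor h).push :=
  ClosedEmbMod25.preservesFiniteColimits_push (c := (complMor h).sharp) isClosedEmbedding_p0

instance preservesFiniteLimits_push : PreservesFiniteLimits (complMor h).push :=
  have : PreservesLimitsOfSize.{0, 0} (complMor h).push := (complMor h).adj.rightAdjoint_preservesLimits
  PreservesLimitsOfSize.preservesFiniteLimits.{0, 0} _

variable [PreservesFiniteLimits (complMor h).pull]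

/-- The derived adjunction. -/
def dAdj : SiteCmp.pullD (complMor h) ⊣ (complMor h).push.mapDerivedCategory :=
  DerCat.mapDerivedAdj (complMor h).adj

/-- The derived direct image is the one of the exact functor. -/
theorem nonempty_RpushD_iso [SiteCmp.HasRpushD (complMor h)] :
    Nonempty (SiteCmp.RpushD (complMor h) ≅ (complMor h).push.mapDerivedCategory) := by
  obtain ⟨a⟩ := KInj.nonempty_mapDerivedCategory_adj_totalRightDerived (complMor h).adj
  exact ⟨a.rightAdjointUniq dAdj⟩

theorem nonempty_hMod_pullD (F : DerivedCategory (ModSite.Mod X.sheaf)) (i : ℤ) :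
    Nonempty (SiteCmp.HMod ((SiteCmp.pullD (complMor h)).obj F) i ≅ (complMor h).pull.obj (SiteCmp.HMod F i)) :=
  DerTrunc.nonempty_homology_mapDerivedCategory _ F i

theorem nonempty_hMod_RpushD [SiteCmp.HasRpushD (complMor h)]
    (G : DerivedCategory (FSch.ModF (FSch.completionAlong X 𝓘) h)) (i : ℤ) :
    Nonempty (SiteCmp.HMod ((SiteCmp.RpushD (complMor h)).obj G) i ≅ (complMor h).push.obj (SiteCmp.HMod G i)) := by
  obtain ⟨e⟩ := nonempty_RpushD_iso (h := h)
  obtain ⟨e'⟩ := DerTrunc.nonempty_homology_mapDerivedCategory (complMor h).push G i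
  exact ⟨(DerivedCategory.homologyFunctor _ i).mapIso (e.app G) ≪≫ e'⟩

theorem bijective_RpushD_map [SiteCmp.HasRpushD (complMor h)]
    {G : DerivedCategory (FSch.ModF (FSch.completionAlong X 𝓘) h)}
    (hG : FTors.IsDTorsF (FSch.completionAlong X 𝓘) h G) (H : DerivedCategory (FSch.ModF (FSch.completionAlong X 𝓘) h)) :
    Function.Bijective (fun φ : G ⟶ H => (SiteCmp.RpushD (complMor h)).map φ) := by
  obtain ⟨e⟩ := nonempty_RpushD_iso (h := h)
  haveI : IsIso (dAdj.counit.app G) := isIso_counit_mapDerivedAdj (complMor h).adj G fun i => isIso_counit (hG i)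
  have hf : (fun φ : G ⟶ H => (SiteCmp.RpushD (complMor h)).map φ) =
      (Iso.homCongr (e.app G).symm (e.app H).symm) ∘ fun φ => (complMor h).push.mapDerivedCategory.map φ := by
    funext φ
    simp [Iso.homCongr]
  rw [hf]
  exact (Equiv.bijective _).comp (bijective_map_of_isIso_counit dAdj H)

end GrothLib.Tors7
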