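import Groth.Agent.Lib.Tors7.Build

/-!
# The equivalence between the torsion modules on a scheme and on its completion
-/

set_option autoImplicit false
set_option linter.style.haveILetI false
set_option linter.unusedSectionVars false
universe u

open CategoryTheory CategoryTheory.Limits AlgebraicGeometry TopologicalSpace Opposite

noncomputable section

namespace GrothLib.Tors7

open GrothLib.FMod7

variable {X : Scheme.{u}} [IsLocallyNoetherian X] {𝓘 : X.IdealSheafData}
  {h : (FSch.completionAlong X 𝓘).IsFormal}

theorem isIso_counit {M : FSch.ModF (FSch.completionAlong X 𝓘) h}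
    (hM : FTors.IsTorsF (FSch.completionAlong X 𝓘) h M) : IsIso ((complMor h).adj.counit.app M) := by
  let adj := (complMor h).adj
  let P := (complMor h).push
  let ε : (complMor h).pull.obj (P.obj M) ⟶ M := adj.counit.app M
  have key : ∀ {Y : FSch.ModF (FSch.completionAlong X 𝓘) h} (g : M ⟶ Y),
      adj.homEquiv (P.obj M) Y (ε ≫ g) = P.map g := fun {Y} g => by
    rw [Adjunction.homEquiv_unit, Functor.map_comp, ← Category.assoc]
    exact (congrArg (· ≫ P.map g) (adj.right_triangle_components M)).trans (Category.id_comp _)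
  obtain ⟨g, hg⟩ := exists_push_map_eq hM (adj.homEquiv (P.obj M) ((complMor h).pull.obj (P.obj M)) (𝟙 _))
  have h1 : ε ≫ g = 𝟙 _ := (adj.homEquiv _ _).injective ((key g).trans hg)
  refine ⟨g, h1, P.map_injective ?_⟩
  rw [← key, ← key, ← Category.assoc]
  refine congrArg (adj.homEquiv (P.obj M) M) ?_
  show (ε ≫ g) ≫ ε = ε ≫ 𝟙 M
  rw [h1, Category.id_comp, Category.comp_id]

theorem isIso_unit {N : ModSite.Mod X.sheaf} (hT : FTors.IsTorsZp X 𝓘 N) : IsIso ((complMor h).adj.unit.app N) := by
  obtain ⟨M, hM, ⟨e⟩⟩ := exists_torsF_push_iso h hT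
  let adj := (complMor h).adj
  have := isIso_counit hM
  have : IsIso (adj.unit.app ((complMor h).push.obj M)) := by
    have h1 := adj.right_triangle_components M
    rw [show adj.unit.app ((complMor h).push.obj M) = inv ((complMor h).push.map (adj.counit.app M)) from
      IsIso.eq_inv_of_inv_hom_id h1]
    infer_instance
  have h2 := adj.unit.naturality e.hom
  exact IsIso.of_isIso_fac_left h2

/-- Torsion is invariant under isomorphism. -/
theorem isTors_of_iso {C : Type u} [SmallCategory C] {J : GrothendieckTopology C} {O : Sheaf J CommRingCat.{u}}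
    {I : FTors.IdealFam O} {M M' : ModSite.Mod O} (e : M ≅ M') (hM : FTors.IsTors I M) : FTors.IsTors I M' :=
  fun U s => by
    have := (hM U (e.inv.val.app (op U) s)).hom e.hom
    rwa [show e.hom.val.app (op U) (e.inv.val.app (op U) s) = s from
      congrArg (fun k => k.val.app (op U) s) e.inv_hom_id] at this

theorem isTorsF_pull {N : ModSite.Mod X.sheaf} (hT : FTors.IsTorsZp X 𝓘 N) :
    FTors.IsTorsF (FSch.completionAlong X 𝓘) h ((complMor h).pull.obj N) := by
  obtain ⟨M, hM, ⟨e⟩⟩ := exists_torsF_push_iso h hT
  have := isIso_counit hM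
  exact isTors_of_iso ((asIso ((complMor h).adj.counit.app M)).symm ≪≫ (complMor h).pull.mapIso e) hM

end GrothLib.Tors7
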