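import Groth.Agent.Lib.FMod7.ComplFlat
import Groth.Agent.Lib.FCat7.Killed
import Groth.Agent.S3854
import Groth.Prelude.Def_FTors3
import Mathlib.RingTheory.Nakayama

/-!
# The open ideals of the completion along a closed subscheme
-/

set_option autoImplicit false
set_option linter.style.haveILetI false
set_option linter.unusedSectionVars false
universe u

open CategoryTheory CategoryTheory.Limits AlgebraicGeometry TopologicalSpace Opposite

noncomputable section

namespace GrothLib.Tors7

open GrothLib.FMod7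

variable {X : Scheme.{u}} [IsLocallyNoetherian X] {𝓘 : X.IdealSheafData}

theorem hN : (FSch.completionAlong X 𝓘).IsLocNoethFormal := Groth.Agent.S3854.result X 𝓘

variable (h : (FSch.completionAlong X 𝓘).IsFormal)

/-- The composite with the projection to a level. -/
abbrev lFun (U : X.Opens) (n : ℕ) : Γ(X, U) →+* LSec (FSch.completionAlong X 𝓘) h (onCompl U) n :=
  (proj (FSch.completionAlong X 𝓘) h (onCompl U) n).comp (complFun h U)

theorem isAffineOpen_onCompl {U : X.Opens} (hU : IsAffineOpen U) : IsAffineOpen (onCompl (𝓘 := 𝓘) U) := by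
  haveI : IsClosedImmersion (FSch.completionToX X 𝓘 0) :=
    inferInstanceAs (IsClosedImmersion ((𝓘 ^ (0 + 1)).subschemeι))
  exact hU.preimage (FSch.completionToX X 𝓘 0)

theorem lFun_surjective {U : X.Opens} (hU : IsAffineOpen U) (k : ℕ) : Function.Surjective (lFun h U k) := by
  rw [lFun, proj_complFun]
  rw [Scheme.Hom.appLE]
  haveI : IsClosedImmersion (FSch.completionToX X 𝓘 k) :=
    inferInstanceAs (IsClosedImmersion ((𝓘 ^ (k + 1)).subschemeι))
  have e := FSch.lvU_p (FSch.completionAlong X 𝓘) h (FSch.completionToX X 𝓘) (FSch.completionToX_comm X 𝓘) k U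
  haveI : IsIso (((FSch.completionAlong X 𝓘).X k).presheaf.map (homOfLE e.ge).op) :=
    ((FSch.completionAlong X 𝓘).X k).presheaf.map_isIso (eqToHom (congrArg op e))
  exact ((ConcreteCategory.bijective_of_isIso
    (((FSch.completionAlong X 𝓘).X k).presheaf.map (homOfLE e.ge).op)).2).comp
      ((FSch.completionToX X 𝓘 k).app_surjective U hU)

theorem ker_lFun {U : X.Opens} (hU : IsAffineOpen U) (k : ℕ) :
    RingHom.ker (lFun h U k) = 𝓘.ideal ⟨U, hU⟩ ^ (k + 1) := by
  rw [lFun, proj_complFun]
  haveI : IsClosedImmersion (FSch.completionToX X 𝓘 k) :=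
    inferInstanceAs (IsClosedImmersion ((𝓘 ^ (k + 1)).subschemeι))
  refine (ker_appLE_of_eq (FSch.completionToX X 𝓘 k) ⟨U, hU⟩ _ _
    (FSch.lvU_p (FSch.completionAlong X 𝓘) h (FSch.completionToX X 𝓘) (FSch.completionToX_comm X 𝓘) k U).symm).trans ?_
  show ((𝓘 ^ (k + 1)).subschemeι).ker.ideal ⟨U, hU⟩ = _
  rw [Scheme.IdealSheafData.ker_subschemeι, Scheme.IdealSheafData.ideal_pow, Pi.pow_apply]

/-- The open ideals are generated by the powers of the ideal. -/
theorem ker_proj_compl {U : X.Opens} (hU : IsAffineOpen U) (n : ℕ) :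
    RingHom.ker (proj (FSch.completionAlong X 𝓘) h (onCompl U) n) =
      (𝓘.ideal ⟨U, hU⟩ ^ (n + 1)).map (complFun h U) := by
  have hV := isAffineOpen_onCompl (𝓘 := 𝓘) hU
  refine le_antisymm ?_ (Ideal.map_le_iff_le_comap.2 fun c hc =>
    RingHom.mem_ker.2 (RingHom.mem_ker.1 ((ker_lFun h hU n).ge hc)))
  haveI := isNoetherianRing_Sec (h := h) (hN (X := X) (𝓘 := 𝓘)) hV
  haveI := isAdicComplete_Sec (h := h) (hN (X := X) (𝓘 := 𝓘)) hV
  refine Submodule.le_of_le_smul_of_le_jacobson_bot (I := secIdeal (FSch.completionAlong X 𝓘) h (onCompl U))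
    (IsNoetherian.noetherian _) (IsAdicComplete.le_jacobson_bot _) fun b hb => ?_
  obtain ⟨a, ha⟩ := lFun_surjective h hU (n + 1) (proj _ h (onCompl U) (n + 1) b)
  have ha' : a ∈ 𝓘.ideal ⟨U, hU⟩ ^ (n + 1) := by
    rw [← ker_lFun h hU n, RingHom.mem_ker]
    show proj _ h (onCompl U) n (complFun h U a) = 0
    rw [← trans_proj, show proj _ h (onCompl U) (n + 1) (complFun h U a) = proj _ h (onCompl U) (n + 1) b from ha,
      trans_proj]
    exact hb
  have hb' : b - complFun h U a ∈ RingHom.ker (proj _ h (onCompl U) (n + 1)) := by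
    rw [RingHom.mem_ker, map_sub, sub_eq_zero]
    exact ha.symm
  rw [show b = complFun h U a + (b - complFun h U a) by ring]
  refine Submodule.add_mem_sup (Ideal.mem_map_of_mem _ ha') ?_
  rw [ker_proj (h := h) hN hV, smul_eq_mul, ← pow_succ']
  exact (ker_proj (h := h) hN hV (n + 1)).le hb'

theorem lFun_res {U U' : X.Opens} (hle : U' ≤ U) (n : ℕ) (c : Γ(X, U)) :
    lFun h U' n (X.presheaf.map (homOfLE hle).op c) =
      ((FSch.completionAlong X 𝓘).X n).presheaf.map
        (homOfLE (lvU_mono (h := h) ((Opens.map (FSch.completionToX X 𝓘 0).base).map (homOfLE hle)).le n)).op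
        (lFun h U n c) :=
  (congrArg (proj _ h (onCompl U') n) (ConcreteCategory.congr_hom ((complMor h).sharp.hom.naturality (homOfLE hle).op) c)).trans
    (proj_res h (onCompl U) _ n _)

theorem mem_ideal_of_lFun_eq_zero {U : X.Opens} {n : ℕ} {c : Γ(X, U)} (hc : lFun h U n c = 0) :
    c ∈ (FTors.powIdealFam X 𝓘).ideal (n + 1) U := by
  refine (FTors.mem_powIdealFam_iff X 𝓘 (n + 1) U c).2 fun W hW => ?_
  rw [← ker_lFun h W.2 n, RingHom.mem_ker, lFun_res h hW n c, hc, map_zero]

theorem lFun_le {U : X.Opens} {m n : ℕ} (hmn : m ≤ n) {c : Γ(X, U)}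
    {a : Sec (FSch.completionAlong X 𝓘) h (onCompl U)}
    (hc : lFun h U n c = proj _ h (onCompl U) n a) : lFun h U m c = proj _ h (onCompl U) m a := by
  induction n, hmn using Nat.le_induction with
  | base => exact hc
  | succ k _ ih =>
    refine ih ?_
    show proj _ h (onCompl U) k (complFun h U c) = _
    rw [← trans_proj, ← trans_proj (𝔛 := FSch.completionAlong X 𝓘) (h := h) (U := onCompl U) k a]
    exact congrArg (trans _ h (onCompl U) k) hc

end GrothLib.Tors7
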