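import Groth.Agent.Lib.Tors7.Desc

/-!
# The module on the completion of a torsion module on the scheme
-/

set_option autoImplicit false
set_option linter.style.haveILetI false
set_option linter.unusedSectionVars false
set_option maxHeartbeats 800000
set_option backward.isDefEq.respectTransparency false
set_option backward.isDefEq.respectTransparency.types false
universe u

open CategoryTheory CategoryTheory.Limits AlgebraicGeometry TopologicalSpace Opposite

noncomputable section

namespace GrothLib.Tors7

open GrothLib.FMod7 GrothLib.FCat7 GrothLib.ClosedEmbMod25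

variable {X : Scheme.{u}} [IsLocallyNoetherian X] {𝓘 : X.IdealSheafData}
  (h : (FSch.completionAlong X 𝓘).IsFormal) {N : ModSite.Mod X.sheaf} (hT : FTors.IsTorsZp X 𝓘 N)
include h hT

theorem sect_eq_zero {W : X.Opens} (hW : onCompl (𝓘 := 𝓘) W = ⊥) (s : ModSite.sect N W) : s = 0 := by
  refine sect_ext N _ _ fun x hx => ?_
  obtain ⟨U', g, n, -, hxU', hk⟩ := exists_killed_nhd hT s hx
  refine ⟨U', g, hxU', ?_⟩
  have := subsingleton_Sec_bot (h := h) (V := onCompl U') (eq_bot_iff.2 ((onCompl_mono g).trans hW.le))
  have h1 : lFun h U' n 1 = 0 :=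
    (congrArg (proj _ h _ n) (Subsingleton.elim (complFun h U' 1) 0)).trans (map_zero _)
  refine (one_smul Γ(X, U') (sres N g s)).symm.trans ((hk.smul_eq_zero (mem_ideal_of_lFun_eq_zero h h1)).trans ?_)
  exact (map_zero (N.val.map (homOfLE g).op).hom).symm

theorem isZero_stalk {x : X} (hx : x ∉ Set.range (FSch.completionToX X 𝓘 0).base) :
    IsZero (CohTop.stalk ((SheafOfModules.toSheaf (ModSite.ringSh X.sheaf)).obj N) x) := by
  refine (ClosedEmb.isZero_iff_unique _).1 (ClosedEmb.unique_stalk_of_forall AddCommGrpCat.{u} _ x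
    ⟨(Set.range (FSch.completionToX X 𝓘 0).base)ᶜ, isClosedEmbedding_p0.isClosed_range.isOpen_compl⟩ hx fun W hW => ?_)
  exact ⟨⟨⟨0⟩, fun (s : ModSite.sect N W) =>
    sect_eq_zero h hT (eq_bot_iff.2 fun z hz => hW hz ⟨z, rfl⟩) s⟩⟩

theorem bijective_res {U U' : X.Opens} (g : U' ≤ U) (he : onCompl (𝓘 := 𝓘) U' = onCompl U) :
    Function.Bijective (sres N g) := by
  let i := (FSch.completionToX X 𝓘 0).base
  let A := (SheafOfModules.toSheaf (ModSite.ringSh X.sheaf)).obj N
  let adj := TopCat.Sheaf.pullbackPushforwardAdjunction AddCommGrpCat.{u} i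
  have : IsIso (adj.unit.app A) := ClosedEmb.isIso_unit_ab isClosedEmbedding_p0 A fun x hx => isZero_stalk h hT hx
  let η := (adj.unit.app A).hom
  have hη : ∀ W, IsIso (η.app W) := fun W =>
    inferInstanceAs (IsIso (((sheafToPresheaf _ AddCommGrpCat.{u}).map (adj.unit.app A)).app W))
  have : IsIso ((Opens.map i).map (homOfLE g)) := by
    have : (Opens.map i).map (homOfLE g) = eqToHom he := Subsingleton.elim _ _
    rw [this]; infer_instance
  have hn := η.naturality (homOfLE g).op
  have : IsIso (((CohTop.push i).obj ((CohTop.pull i).obj A)).obj.map (homOfLE g).op) :=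
    inferInstanceAs (IsIso (((CohTop.pull i).obj A).obj.map ((Opens.map i).map (homOfLE g)).op))
  have : IsIso (A.obj.map (homOfLE g).op) := by
    have h2 : IsIso (A.obj.map (homOfLE g).op ≫ η.app (op U')) := by
      refine (congrArg IsIso hn).mpr ?_
      exact @IsIso.comp_isIso _ _ _ _ _ _ _ (hη _) this
    exact @IsIso.of_isIso_comp_right _ _ _ _ _ _ (η.app (op U')) (hη _) h2
  exact ConcreteCategory.bijective_of_isIso (A.obj.map (homOfLE g).op)

/-- A torsion module on the scheme is the direct image of a torsion module on the completion. -/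
theorem exists_torsF_push_iso : ∃ M : FSch.ModF (FSch.completionAlong X 𝓘) h,
    FTors.IsTorsF (FSch.completionAlong X 𝓘) h M ∧ Nonempty ((complMor h).push.obj M ≅ N) := by
  let i := (FSch.completionToX X 𝓘 0).base
  have hi : Topology.IsClosedEmbedding i := isClosedEmbedding_p0
  let A := (bigFun i hi).op ⋙ N.val.presheaf
  have hle : ∀ V, onCompl (𝓘 := 𝓘) (big i hi V) ≤ V := fun V => (map_big hi V).le
  letI inst : ∀ V : (Opens ((FSch.completionAlong X 𝓘).X 0))ᵒᵖ,
      Module (((FSch.completionAlong X 𝓘).Osh h).obj.obj V) (A.obj V) := fun V =>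
    { smul := fun a s => act (hle V.unop) hT a s
      one_smul := fun s => act_one _ hT s
      mul_smul := fun a a' s => act_mul _ hT a a' s
      smul_add := fun a s s' => act_add_right _ hT a s s'
      add_smul := fun a a' s => act_add_left _ hT a a' s
      smul_zero := fun a => (AddMonoidHom.mk' (act (hle V.unop) hT a) (act_add_right (hle V.unop) hT a)).map_zero
      zero_smul := fun s => (AddMonoidHom.mk' (fun a => act (hle V.unop) hT a s)
        fun a a' => act_add_left (hle V.unop) hT a a' s).map_zero }
  letI inst' : ∀ V : (Opens ((FSch.completionAlong X 𝓘).X 0))ᵒᵖ,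
      Module ((((FSch.completionAlong X 𝓘).Osh h).obj ⋙ forget₂ CommRingCat.{u} RingCat.{u}).obj V) (A.obj V) := inst
  let P : PresheafOfModules.{u} (((FSch.completionAlong X 𝓘).Osh h).obj ⋙ forget₂ CommRingCat.{u} RingCat.{u}) :=
    PresheafOfModules.ofPresheaf A fun {V W} k a s =>
      act_res (hle V.unop) hT (hle W.unop) (big_mono hi k.unop.le) k.unop.le a s
  have hP : Presheaf.IsSheaf (Opens.grothendieckTopology _) A := by
    let S := (SheafOfModules.toSheaf (ModSite.ringSh X.sheaf)).obj N
    let adj := TopCat.Sheaf.pullbackPushforwardAdjunction AddCommGrpCat.{u} i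
    have : IsIso (adj.unit.app S) := ClosedEmb.isIso_unit_ab hi S fun x hx => isZero_stalk h hT hx
    let e : S.obj ≅ (Opens.map i).op ⋙ ((CohTop.pull i).obj S).obj :=
      (sheafToPresheaf _ AddCommGrpCat.{u}).mapIso (asIso (adj.unit.app S))
    refine (Presheaf.isSheaf_of_iso_iff ?_).2 ((CohTop.pull i).obj S).property
    exact Functor.isoWhiskerLeft (bigFun i hi).op e ≪≫
      NatIso.ofComponents (fun V => ((CohTop.pull i).obj S).obj.mapIso (eqToIso (map_big hi V.unop)).op.symm)
        (fun {V W} k => by
          simp only [Functor.comp_map, Functor.mapIso_hom, ← Functor.map_comp]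
          exact congrArg ((CohTop.pull i).obj S).obj.map (Subsingleton.elim _ _))
  let M : FSch.ModF (FSch.completionAlong X 𝓘) h := ⟨P, hP⟩
  refine ⟨M, fun V (s : ModSite.sect N (big i hi V)) z hz => ?_, ?_⟩
  · obtain ⟨U₁, g₁, n, -, hx₁, hk₁⟩ := exists_killed_nhd hT s ((mem_big hi).2 hz)
    obtain ⟨U, hU, hUU₁, hzU, hUV⟩ := exists_affine_below (𝓘 := 𝓘) hz (W := U₁) hx₁
    refine ⟨onCompl U, homOfLE hUV, ⟨n, ?_⟩, hzU⟩
    refine killed_of_forall_mem (hN (X := X) (𝓘 := 𝓘)) (isAffineOpen_onCompl hU) fun a ha => ?_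
    have hUb : U ≤ big i hi (onCompl U) := le_big hi U
    show act (hle (onCompl U)) hT a (sres N (big_mono hi hUV) s) = (0 : ModSite.sect N _)
    refine (bijective_res h hT hUb (map_big hi (onCompl U)).symm).1 ?_
    rw [act_res (hle (onCompl U)) hT (le_refl (onCompl U)) hUb (le_refl _)]
    refine Eq.trans ?_ (map_zero (N.val.map (homOfLE hUb).op).hom).symm
    have hk : KP (𝓘 := 𝓘) (n + 1) (sres N (hUU₁.trans g₁) s) := by
      have := hk₁.sres hUU₁
      rwa [sres_sres] at this
    refine act_eq _ hT fun U' g m b hk' hb => ?_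
    rw [sres_sres] at hk' ⊢
    rw [show sres N g (0 : ModSite.sect N U) = 0 from map_zero _]
    have h0 : Lifts (le_refl (onCompl U)) (rRes (le_refl (onCompl U)) a) g n (0 : Γ(X, U')) := by
      rw [Lifts, map_zero]
      symm
      rw [show rRes (le_below (le_refl (onCompl U)) g) (rRes (le_refl (onCompl U)) a) = rRes (onCompl_mono g) a from
        ores_ores _ _ a]
      refine (proj_res h (onCompl U) (onCompl_mono g) n a).trans ?_
      rw [RingHom.mem_ker.1 ((ker_proj (h := h) (hN (X := X) (𝓘 := 𝓘)) (isAffineOpen_onCompl hU) n).ge ha), map_zero]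
    have hkn := hk.sres g
    rw [sres_sres] at hkn
    rw [sres_sres] at hk' ⊢
    exact ((smul_congr (le_refl (onCompl U)) hk' hb hkn h0).trans (zero_smul _ _)).symm
  · let f : ∀ U : (Opens X)ᵒᵖ, ((complMor h).push.obj M).val.obj U →ₗ[(ModSite.ringSh X.sheaf).obj.obj U] N.val.obj U :=
      fun U =>
        { toFun := fun s => sres N (le_big hi U.unop) (show ModSite.sect N _ from s)
          map_add' := fun s s' => map_add (N.val.map (homOfLE (le_big hi U.unop)).op).hom _ _
          map_smul' := fun b s => by
            change sres N (le_big hi U.unop) (act (hle (onCompl U.unop)) hT (complFun h U.unop b)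
              (show ModSite.sect N _ from s)) = _
            rw [act_res (hle (onCompl U.unop)) hT (le_refl _) (le_big hi U.unop) (le_refl _)]
            refine Eq.trans ?_ (act_complFun (h := h) hT b _)
            exact congrArg (fun t => act _ hT t _) (ConcreteCategory.congr_hom
              (((FSch.completionAlong X 𝓘).Osh h).obj.map_id _) _) }
    have hf : ∀ U, Function.Bijective (f U) := fun U => bijective_res h hT _ (map_big hi _).symm
    refine ⟨(SheafOfModules.fullyFaithfulForget _).preimageIso
      (PresheafOfModules.isoMk (fun U => (LinearEquiv.ofBijective (f U) (hf U)).toModuleIso) fun U U' k => ?_)⟩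
    refine ModuleCat.hom_ext (LinearMap.ext fun (s : ModSite.sect N (big i hi (onCompl U.unop))) => ?_)
    exact ((sres_sres _ _ s).trans (sres_sres (le_big hi U.unop) k.unop.le s).symm)

end GrothLib.Tors7
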