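import Groth.Agent.Lib.Tors7.Push

/-!
# Torsion modules on the scheme come from the completion
-/

set_option autoImplicit false
set_option linter.style.haveILetI false
set_option linter.unusedSectionVars false
set_option maxHeartbeats 800000
set_option backward.isDefEq.respectTransparency false
universe u

open CategoryTheory CategoryTheory.Limits AlgebraicGeometry TopologicalSpace Opposite

noncomputable section

namespace GrothLib.Tors7

open GrothLib.FMod7 GrothLib.FCat7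

variable {X : Scheme.{u}} [IsLocallyNoetherian X] {𝓘 : X.IdealSheafData}
  {h : (FSch.completionAlong X 𝓘).IsFormal} {N : ModSite.Mod X.sheaf}

/-- Killed by a power of the ideal. -/
abbrev KP (n : ℕ) {U : X.Opens} (s : ModSite.sect N U) : Prop :=
  FTors.KilledBy (FTors.powIdealFam X 𝓘) N n s

theorem KP.smul_eq_zero {n : ℕ} {U : X.Opens} {s : ModSite.sect N U} (hs : KP (𝓘 := 𝓘) n s) {c : Γ(X, U)}
    (hc : c ∈ (FTors.powIdealFam X 𝓘).ideal n U) : c • s = 0 :=
  (congrArg (c • ·) (FTors.res_id N s).symm).trans (hs (𝟙 U) c hc)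

theorem KP.sres {n : ℕ} {U U' : X.Opens} {s : ModSite.sect N U} (hs : KP (𝓘 := 𝓘) n s) (g : U' ≤ U) :
    KP (𝓘 := 𝓘) n (sres N g s) :=
  FTors.KilledBy.res (homOfLE g) hs

theorem exists_killed_nhd (hT : FTors.IsTorsZp X 𝓘 N) {U : X.Opens} (s : ModSite.sect N U) {x : X} (hx : x ∈ U) :
    ∃ (U' : X.Opens) (g : U' ≤ U) (n : ℕ), IsAffineOpen U' ∧ x ∈ U' ∧ KP (𝓘 := 𝓘) (n + 1) (sres N g s) := by
  obtain ⟨V, g, ⟨n, hn⟩, hxV⟩ := hT U s x hx
  obtain ⟨U', hU', hxU', hU'V⟩ := exists_isAffineOpen_mem_and_subset (x := x) (U := V) hxV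
  refine ⟨U', (show U' ≤ V from hU'V).trans g.le, n, hU', hxU', ?_⟩
  have := (FTors.KilledBy.mono (Nat.le_succ n) hn).res (homOfLE (show U' ≤ V from hU'V))
  rw [← FTors.res_comp] at this
  exact this

theorem exists_killed_nhd₂ (hT : FTors.IsTorsZp X 𝓘 N) {U : X.Opens} (s s' : ModSite.sect N U) {x : X} (hx : x ∈ U) :
    ∃ (U' : X.Opens) (g : U' ≤ U) (n : ℕ), IsAffineOpen U' ∧ x ∈ U' ∧ KP (𝓘 := 𝓘) (n + 1) (sres N g s) ∧
      KP (𝓘 := 𝓘) (n + 1) (sres N g s') := by
  obtain ⟨U₁, g₁, n₁, -, hx₁, h₁⟩ := exists_killed_nhd hT s hx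
  obtain ⟨U₂, g₂, n₂, hU₂, hx₂, h₂⟩ := exists_killed_nhd hT (sres N g₁ s') hx₁
  rw [sres_sres] at h₂
  refine ⟨U₂, g₂.trans g₁, max n₁ n₂, hU₂, hx₂, FTors.KilledBy.mono (n := n₁ + 1) (by omega) ?_,
    FTors.KilledBy.mono (n := n₂ + 1) (by omega) h₂⟩
  have := h₁.sres g₂
  rwa [sres_sres] at this

variable {U : X.Opens} {V : ((FSch.completionAlong X 𝓘).X 0).Opens} (hV : onCompl U ≤ V)

include hV in
theorem le_below {U' : X.Opens} (g : U' ≤ U) : onCompl U' ≤ V := (onCompl_mono g).trans hV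

/-- `b` lifts `a` modulo the `n`-th open ideal. -/
abbrev Lifts (a : Sec (FSch.completionAlong X 𝓘) h V) {U' : X.Opens} (g : U' ≤ U) (n : ℕ) (b : Γ(X, U')) : Prop :=
  lFun h U' n b = proj (FSch.completionAlong X 𝓘) h (onCompl U') n (rRes (le_below hV g) a)

theorem Lifts.res {a : Sec (FSch.completionAlong X 𝓘) h V} {U' U'' : X.Opens} {g : U' ≤ U} {n : ℕ} {b : Γ(X, U')}
    (hb : Lifts hV a g n b) (k : U'' ≤ U') : Lifts hV a (k.trans g) n (X.presheaf.map (homOfLE k).op b) := by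
  refine (lFun_res h k n b).trans ?_
  rw [hb]
  exact (proj_res h (onCompl U') (onCompl_mono k) n _).symm.trans
    (congrArg (proj _ h _ n) (ores_ores (le_below hV g) (onCompl_mono k) a))

theorem smul_congr {a : Sec (FSch.completionAlong X 𝓘) h V} {U' : X.Opens} {g : U' ≤ U} {s : ModSite.sect N U'}
    {n m : ℕ} {b b' : Γ(X, U')} (hn : KP (𝓘 := 𝓘) (n + 1) s) (hb : Lifts hV a g n b)
    (hm : KP (𝓘 := 𝓘) (m + 1) s) (hb' : Lifts hV a g m b') : b • s = b' • s := by
  rcases le_total n m with hnm | hnm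
  · rw [← sub_eq_zero, ← sub_smul]
    exact hn.smul_eq_zero (mem_ideal_of_lFun_eq_zero h (by rw [map_sub, hb, lFun_le h hnm hb', sub_self]))
  · rw [← sub_eq_zero, ← sub_smul]
    exact hm.smul_eq_zero (mem_ideal_of_lFun_eq_zero h (by rw [map_sub, hb', lFun_le h hnm hb, sub_self]))

/-- `t` is the product of `a` and `s`. -/
def IsProd (a : Sec (FSch.completionAlong X 𝓘) h V) (s t : ModSite.sect N U) : Prop :=
  ∀ ⦃U' : X.Opens⦄ (g : U' ≤ U) (n : ℕ) (b : Γ(X, U')), KP (𝓘 := 𝓘) (n + 1) (sres N g s) → Lifts hV a g n b →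
    sres N g t = b • sres N g s

theorem isProd_of_local {a : Sec (FSch.completionAlong X 𝓘) h V} {s t : ModSite.sect N U}
    (H : ∀ x ∈ U, ∃ (U' : X.Opens) (g : U' ≤ U) (n : ℕ), x ∈ U' ∧ KP (𝓘 := 𝓘) (n + 1) (sres N g s) ∧
      ∃ b, Lifts hV a g n b ∧ sres N g t = b • sres N g s) : IsProd hV a s t := by
  intro U₁ g₁ n₁ b₁ hk₁ hb₁
  refine sect_ext N _ _ fun x hx => ?_
  obtain ⟨U₂, g₂, n₂, hx₂, hk₂, b₂, hb₂, ht⟩ := H x (g₁ hx)
  refine ⟨U₁ ⊓ U₂, inf_le_left, ⟨hx, hx₂⟩, ?_⟩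
  refine Eq.trans ?_ (N.val.map_smul (homOfLE (inf_le_left : U₁ ⊓ U₂ ≤ U₁)).op b₁ _).symm
  rw [sres_sres, ← sres_sres g₂ (inf_le_right : U₁ ⊓ U₂ ≤ U₂), ht]
  refine (N.val.map_smul (homOfLE (inf_le_right : U₁ ⊓ U₂ ≤ U₂)).op b₂ _).trans ?_
  show X.presheaf.map (homOfLE (inf_le_right : U₁ ⊓ U₂ ≤ U₂)).op b₂ • sres N inf_le_right (sres N g₂ s) =
    X.presheaf.map (homOfLE (inf_le_left : U₁ ⊓ U₂ ≤ U₁)).op b₁ • sres N inf_le_left (sres N g₁ s)
  have h₂ := hk₂.sres (inf_le_right : U₁ ⊓ U₂ ≤ U₂)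
  have h₁ := hk₁.sres (inf_le_left : U₁ ⊓ U₂ ≤ U₁)
  rw [sres_sres] at h₁ h₂ ⊢
  rw [sres_sres]
  exact smul_congr hV h₂ (hb₂.res hV inf_le_right) h₁ (hb₁.res hV inf_le_left)

variable (hT : FTors.IsTorsZp X 𝓘 N)
include hT

theorem exists_prod (a : Sec (FSch.completionAlong X 𝓘) h V) (s : ModSite.sect N U) :
    ∃ t, IsProd hV a s t := by
  choose U' g n hU' hx hk using fun x : U => exists_killed_nhd hT s x.2
  choose b hb using fun x : U => lFun_surjective h (hU' x) (n x) (proj _ h _ (n x) (rRes (le_below hV (g x)) a))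
  let S : TopCat.Sheaf AddCommGrpCat.{u} X.carrier := (SheafOfModules.toSheaf _).obj N
  obtain ⟨t, ht, -⟩ := TopCat.Sheaf.existsUnique_gluing' S U' U (fun x => homOfLE (g x))
    (fun x hx' => TopologicalSpace.Opens.mem_iSup.2 ⟨⟨x, hx'⟩, hx ⟨x, hx'⟩⟩) (fun x => b x • sres N (g x) s)
    (fun x y => by
      show sres N inf_le_left (b x • sres N (g x) s) = sres N inf_le_right (b y • sres N (g y) s)
      refine (N.val.map_smul (homOfLE (inf_le_left : U' x ⊓ U' y ≤ U' x)).op (b x) _).trans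
        (Eq.trans ?_ (N.val.map_smul (homOfLE (inf_le_right : U' x ⊓ U' y ≤ U' y)).op (b y) _).symm)
      have h₁ := (hk x).sres (inf_le_left : U' x ⊓ U' y ≤ U' x)
      have h₂ := (hk y).sres (inf_le_right : U' x ⊓ U' y ≤ U' y)
      show X.presheaf.map (homOfLE (inf_le_left : U' x ⊓ U' y ≤ U' x)).op (b x) • sres N inf_le_left (sres N (g x) s) =
        X.presheaf.map (homOfLE (inf_le_right : U' x ⊓ U' y ≤ U' y)).op (b y) • sres N inf_le_right (sres N (g y) s)
      rw [sres_sres] at h₁ h₂ ⊢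
      rw [sres_sres]
      exact smul_congr hV (g := inf_le_left.trans (g x)) h₁ (Lifts.res hV (g := g x) (hb x) inf_le_left) h₂
        (Lifts.res hV (g := g y) (hb y) inf_le_right))
  exact ⟨t, isProd_of_local hV fun x hxU => ⟨_, g ⟨x, hxU⟩, n _, hx ⟨x, hxU⟩, hk _, b _, hb _, ht ⟨x, hxU⟩⟩⟩

theorem prod_unique {a : Sec (FSch.completionAlong X 𝓘) h V} {s t t' : ModSite.sect N U}
    (ht : IsProd hV a s t) (ht' : IsProd hV a s t') : t = t' := by
  refine sect_ext N _ _ fun x hx => ?_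
  obtain ⟨U', g, n, hU', hxU', hk⟩ := exists_killed_nhd hT s hx
  obtain ⟨b, hb⟩ := lFun_surjective h hU' n (proj _ h _ n (rRes (le_below hV g) a))
  exact ⟨U', g, hxU', (ht g n b hk hb).trans (ht' g n b hk hb).symm⟩

/-- The product. -/
def act (a : Sec (FSch.completionAlong X 𝓘) h V) (s : ModSite.sect N U) : ModSite.sect N U :=
  (exists_prod hV hT a s).choose

theorem act_spec (a : Sec (FSch.completionAlong X 𝓘) h V) (s : ModSite.sect N U) : IsProd hV a s (act hV hT a s) :=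
  (exists_prod hV hT a s).choose_spec

theorem act_eq {a : Sec (FSch.completionAlong X 𝓘) h V} {s t : ModSite.sect N U} (ht : IsProd hV a s t) :
    act hV hT a s = t :=
  prod_unique hV hT (act_spec hV hT a s) ht

theorem act_one (s : ModSite.sect N U) : act hV hT (1 : Sec (FSch.completionAlong X 𝓘) h V) s = s := by
  refine act_eq hV hT (isProd_of_local hV fun x hx => ?_)
  obtain ⟨U', g, n, -, hxU', hk⟩ := exists_killed_nhd hT s hx
  exact ⟨U', g, n, hxU', hk, 1, by rw [Lifts, map_one, map_one, map_one], (one_smul _ _).symm⟩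

theorem act_add_right (a : Sec (FSch.completionAlong X 𝓘) h V) (s s' : ModSite.sect N U) :
    act hV hT a (s + s') = act hV hT a s + act hV hT a s' := by
  refine act_eq hV hT (isProd_of_local hV fun x hx => ?_)
  obtain ⟨U', g, n, hU', hxU', hk, hk'⟩ := exists_killed_nhd₂ hT s s' hx
  obtain ⟨b, hb⟩ := lFun_surjective h hU' n (proj _ h _ n (rRes (le_below hV g) a))
  refine ⟨U', g, n, hxU', ?_, b, hb, ?_⟩
  · rw [show sres N g (s + s') = sres N g s + sres N g s' from map_add _ _ _]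
    exact hk.add hk'
  · show (N.val.map (homOfLE g).op).hom (act hV hT a s + act hV hT a s') = b • (N.val.map (homOfLE g).op).hom (s + s')
    rw [map_add, map_add]
    exact (congrArg₂ (· + ·) (act_spec hV hT a s g n b hk hb) (act_spec hV hT a s' g n b hk' hb)).trans (smul_add _ _ _).symm

theorem act_add_left (a a' : Sec (FSch.completionAlong X 𝓘) h V) (s : ModSite.sect N U) :
    act hV hT (a + a') s = act hV hT a s + act hV hT a' s := by
  refine act_eq hV hT (isProd_of_local hV fun x hx => ?_)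
  obtain ⟨U', g, n, hU', hxU', hk⟩ := exists_killed_nhd hT s hx
  obtain ⟨b, hb⟩ := lFun_surjective h hU' n (proj _ h _ n (rRes (le_below hV g) a))
  obtain ⟨b', hb'⟩ := lFun_surjective h hU' n (proj _ h _ n (rRes (le_below hV g) a'))
  refine ⟨U', g, n, hxU', hk, b + b', by rw [Lifts, map_add, hb, hb', map_add, map_add], ?_⟩
  refine (map_add (N.val.map (homOfLE g).op).hom _ _).trans ?_
  exact (congrArg₂ (· + ·) (act_spec hV hT a s g n b hk hb) (act_spec hV hT a' s g n b' hk hb')).trans (add_smul _ _ _).symm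

theorem act_mul (a a' : Sec (FSch.completionAlong X 𝓘) h V) (s : ModSite.sect N U) :
    act hV hT (a * a') s = act hV hT a (act hV hT a' s) := by
  refine act_eq hV hT (isProd_of_local hV fun x hx => ?_)
  obtain ⟨U', g, n, hU', hxU', hk⟩ := exists_killed_nhd hT s hx
  obtain ⟨b, hb⟩ := lFun_surjective h hU' n (proj _ h _ n (rRes (le_below hV g) a))
  obtain ⟨b', hb'⟩ := lFun_surjective h hU' n (proj _ h _ n (rRes (le_below hV g) a'))
  refine ⟨U', g, n, hxU', hk, b * b', by rw [Lifts, map_mul, hb, hb', map_mul, map_mul], ?_⟩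
  have e := act_spec hV hT a' s g n b' hk hb'
  rw [act_spec hV hT a (act hV hT a' s) g n b (by rw [e]; exact hk.smul b') hb, e, mul_smul]

theorem act_res {U₁ : X.Opens} {V₁ : ((FSch.completionAlong X 𝓘).X 0).Opens} (hV₁ : onCompl U₁ ≤ V₁)
    (g : U₁ ≤ U) (k : V₁ ≤ V) (a : Sec (FSch.completionAlong X 𝓘) h V) (s : ModSite.sect N U) :
    sres N g (act hV hT a s) = act hV₁ hT (rRes k a) (sres N g s) := by
  refine (act_eq hV₁ hT fun U' g' n b hk hb => ?_).symm
  rw [sres_sres] at hk ⊢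
  rw [sres_sres]
  refine act_spec hV hT a s (g'.trans g) n b hk (hb.trans (congrArg (proj _ h _ n) ?_))
  exact ores_ores k (le_below hV₁ g') a

theorem act_complFun (c : Γ(X, U)) (s : ModSite.sect N U) :
    act (le_refl (onCompl U)) hT (complFun h U c) s = c • s := by
  refine act_eq _ hT (isProd_of_local _ fun x hx => ?_)
  obtain ⟨U', g, n, -, hxU', hk⟩ := exists_killed_nhd hT s hx
  refine ⟨U', g, n, hxU', hk, X.presheaf.map (homOfLE g).op c, ?_, N.val.map_smul (homOfLE g).op c s⟩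
  exact congrArg (proj _ h _ n) (ConcreteCategory.congr_hom ((complMor h).sharp.hom.naturality (homOfLE g).op) c)

end GrothLib.Tors7
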