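import Groth.Agent.Lib.Tors7.Levels
import Groth.Agent.Lib.ClosedEmbMod25.Basic

/-!
# The direct image to the scheme of torsion modules on the completion
-/

set_option autoImplicit false
set_option linter.style.haveILetI false
set_option linter.unusedSectionVars false
set_option backward.isDefEq.respectTransparency false
universe u

open CategoryTheory CategoryTheory.Limits AlgebraicGeometry TopologicalSpace Opposite

noncomputable section

namespace GrothLib.Tors7

open GrothLib.FMod7 GrothLib.FCat7

variable {X : Scheme.{u}} [IsLocallyNoetherian X] {𝓘 : X.IdealSheafData}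
  {h : (FSch.completionAlong X 𝓘).IsFormal}

theorem isClosedEmbedding_p0 : Topology.IsClosedEmbedding (FSch.completionToX X 𝓘 0).base := by
  haveI : IsClosedImmersion (FSch.completionToX X 𝓘 0) :=
    inferInstanceAs (IsClosedImmersion ((𝓘 ^ (0 + 1)).subschemeι))
  exact (FSch.completionToX X 𝓘 0).isClosedEmbedding

theorem onCompl_mono {U V : X.Opens} (hUV : U ≤ V) : onCompl (𝓘 := 𝓘) U ≤ onCompl V :=
  ((Opens.map (FSch.completionToX X 𝓘 0).base).map (homOfLE hUV)).le

theorem subsingleton_Sec_bot {V : ((FSch.completionAlong X 𝓘).X 0).Opens} (hV : V = ⊥) :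
    Subsingleton (Sec (FSch.completionAlong X 𝓘) h V) := by
  obtain ⟨u⟩ := ClosedEmb.subsingleton_of_isTerminal CommRingCat.{u}
    (TopCat.Sheaf.isTerminalOfEqEmpty ((FSch.completionAlong X 𝓘).Osh h) hV)
  exact u.instSubsingleton

theorem killed_push {M : FSch.ModF (FSch.completionAlong X 𝓘) h} {U : X.Opens} {n : ℕ}
    {s : ModSite.sect ((complMor h).push.obj M) U}
    (hs : Killed n (show ModSite.sect M (onCompl U) from s)) :
    FTors.KilledBy (FTors.powIdealFam X 𝓘) ((complMor h).push.obj M) (n + 1) s := by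
  intro W g b hb
  show complFun h W b • sres M (onCompl_mono g.le) (show ModSite.sect M (onCompl U) from s) = 0
  refine sect_ext M _ _ fun z hz => ?_
  obtain ⟨V, hV, hVW, hzV, -⟩ := exists_affine_below (𝓘 := 𝓘) hz (W := W) hz
  refine ⟨onCompl V, onCompl_mono hVW, hzV, ?_⟩
  refine (M.val.map_smul (homOfLE (onCompl_mono hVW)).op _ _).trans (Eq.trans ?_ (map_zero _).symm)
  show rRes (onCompl_mono hVW) (complFun h W b) • sres M (onCompl_mono hVW) (sres M (onCompl_mono g.le) _) = 0
  rw [sres_sres]
  refine hs.smul_sres _ ?_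
  have e : rRes (onCompl_mono hVW) (complFun h W b) = complFun h V (X.presheaf.map (homOfLE hVW).op b) :=
    (ConcreteCategory.congr_hom ((complMor h).sharp.hom.naturality (homOfLE hVW).op) b).symm
  rw [e]
  refine RingHom.mem_ker.1 (show _ ∈ RingHom.ker (proj _ h (onCompl V) n) from ?_)
  rw [ker_proj_compl h hV]
  exact Ideal.mem_map_of_mem _ ((FTors.mem_powIdealFam_iff X 𝓘 (n + 1) W b).1 hb ⟨V, hV⟩ hVW)

/-- The direct image of a torsion module is torsion for the powers of the ideal. -/
theorem isTorsZp_push {M : FSch.ModF (FSch.completionAlong X 𝓘) h}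
    (hM : FTors.IsTorsF (FSch.completionAlong X 𝓘) h M) : FTors.IsTorsZp X 𝓘 ((complMor h).push.obj M) := by
  intro U s x hx
  by_cases hxZ : x ∈ Set.range (FSch.completionToX X 𝓘 0).base
  · obtain ⟨z, rfl⟩ := hxZ
    obtain ⟨V, g, ⟨n, hn⟩, hzV⟩ := hM (onCompl U) s z hx
    obtain ⟨U', -, hU'U, hzU', hU'V⟩ := exists_affine_below (𝓘 := 𝓘) hzV (W := U) hx
    refine ⟨U', homOfLE hU'U, ⟨n + 1, killed_push ?_⟩, hzU'⟩
    have := (FTors.KilledBy.res (homOfLE hU'V) hn)
    rw [← FTors.res_comp] at this
    exact this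
  · refine ⟨U ⊓ ⟨(Set.range (FSch.completionToX X 𝓘 0).base)ᶜ, isClosedEmbedding_p0.isClosed_range.isOpen_compl⟩,
      homOfLE inf_le_left, ⟨0, fun W g b _ => ?_⟩, ⟨hx, hxZ⟩⟩
    have he : onCompl (𝓘 := 𝓘) W = ⊥ := eq_bot_iff.2 fun z hz => (g.le hz).2 ⟨z, rfl⟩
    have := subsingleton_Sec_bot (h := h) he
    show complFun h W b • (_ : ModSite.sect M (onCompl W)) = 0
    rw [Subsingleton.elim (complFun h W b) 0, zero_smul]

instance faithful_push : (complMor h).push.Faithful :=
  ClosedEmbMod25.faithful_push (c := (complMor h).sharp) isClosedEmbedding_p0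

/-- Morphisms of direct images out of a torsion module come from the completion. -/
theorem exists_push_map_eq {M M' : FSch.ModF (FSch.completionAlong X 𝓘) h}
    (hM : FTors.IsTorsF (FSch.completionAlong X 𝓘) h M)
    (α : (complMor h).push.obj M ⟶ (complMor h).push.obj M') : ∃ γ : M ⟶ M', (complMor h).push.map γ = α := by
  have : (CohTop.push (FSch.completionToX X 𝓘 0).base).Full :=
    ClosedEmb.full isClosedEmbedding_p0.isInducing
  obtain ⟨β, hβ⟩ := (CohTop.push (FSch.completionToX X 𝓘 0).base).map_surjective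
    (X := (SheafOfModules.toSheaf _).obj M) (Y := (SheafOfModules.toSheaf _).obj M')
    ((SheafOfModules.toSheaf (ModSite.ringSh X.sheaf)).map α)
  let b : ∀ W, ModSite.sect M W →+ ModSite.sect M' W := fun W => (β.hom.app (op W)).hom
  have hnat : ∀ {W W'} (g : W' ≤ W) (s : ModSite.sect M W), b W' (sres M g s) = sres M' g (b W s) :=
    fun g s => ConcreteCategory.congr_hom (β.hom.naturality (homOfLE g).op) s
  have hsc : ∀ (U : X.Opens) (c : Γ(X, U)) (s : ModSite.sect M (onCompl U)),
      b (onCompl U) (complFun h U c • s) = complFun h U c • b (onCompl U) s := fun U c s => by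
    have hα : ∀ (s : ModSite.sect M (onCompl U)), b (onCompl U) s = α.val.app (op U) s := fun s =>
      ConcreteCategory.congr_hom (NatTrans.congr_app (congrArg (fun t => t.hom) hβ) (op U)) s
    rw [hα, hα]
    exact (α.val.app (op U)).hom.map_smul c s
  have hlin : ∀ (W) (a : Sec (FSch.completionAlong X 𝓘) h W) (s : ModSite.sect M W), b W (a • s) = a • b W s := by
    intro W a s
    refine sect_ext M' _ _ fun z hz => ?_
    obtain ⟨V, g, ⟨n, hn⟩, hzV⟩ := hM W s z hz
    obtain ⟨U, hU, -, hzU, hUV⟩ := exists_affine_below (𝓘 := 𝓘) hzV (W := ⊤) trivial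
    have hUW : onCompl U ≤ W := hUV.trans g.le
    refine ⟨onCompl U, hUW, hzU, ?_⟩
    obtain ⟨c, hc⟩ := lFun_surjective h hU n (proj _ h _ n (rRes hUW a))
    have hk : rRes hUW a - complFun h U c ∈ RingHom.ker (proj _ h (onCompl U) n) := by
      rw [RingHom.mem_ker, map_sub, sub_eq_zero]
      exact hc.symm
    have hkill : ∀ d ∈ RingHom.ker (proj (FSch.completionAlong X 𝓘) h (onCompl U) n), d • sres M hUW s = 0 := by
      intro d hd
      have := FCat7.Killed.smul_sres (FTors.KilledBy.res (homOfLE hUV) hn) le_rfl (a := d) (RingHom.mem_ker.1 hd)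
      rw [← FTors.res_comp, sres_id] at this
      exact this
    have hkill' : ∀ d ∈ RingHom.ker (proj (FSch.completionAlong X 𝓘) h (onCompl U) n),
        d • b _ (sres M hUW s) = 0 := by
      intro d hd
      rw [ker_proj_compl h hU] at hd
      refine Submodule.span_induction ?_ (zero_smul _ _) (fun x y _ _ hx hy => by rw [add_smul, hx, hy, add_zero])
        (fun r x _ hx => by rw [smul_eq_mul, mul_smul, hx, smul_zero]) hd
      rintro _ ⟨e, he, rfl⟩
      rw [← hsc, hkill _ (by rw [ker_proj_compl h hU]; exact Ideal.mem_map_of_mem _ he), map_zero]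
    rw [← hnat]
    refine (congrArg (b _) (M.val.map_smul (homOfLE hUW).op a s)).trans
      (Eq.trans ?_ (M'.val.map_smul (homOfLE hUW).op a _).symm)
    show b _ (rRes hUW a • sres M hUW s) = rRes hUW a • sres M' hUW (b W s)
    rw [← hnat, show rRes hUW a = complFun h U c + (rRes hUW a - complFun h U c) by ring, add_smul, add_smul,
      map_add, hsc, hkill _ hk, map_zero, hkill' _ hk]
  refine ⟨⟨PresheafOfModules.homMk β.hom fun W a s => hlin W.unop a s⟩, ?_⟩
  refine SheafOfModules.hom_ext (PresheafOfModules.hom_ext fun U => ModuleCat.hom_ext (LinearMap.ext fun s => ?_))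
  exact ConcreteCategory.congr_hom (NatTrans.congr_app (congrArg (fun t => t.hom) hβ) U) s

end GrothLib.Tors7
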