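import Groth.Agent.Lib.Tors7.Equiv
import Groth.Agent.Lib.FCat7.QCT
import Groth.Agent.Lib.FCat7.Bridge
import Groth.Agent.Lib.QCoh.FT
import Groth.Agent.Lib.PullPres25.Transfer

/-!
# Quasi-coherent torsion modules on the completion and on the scheme
-/

set_option autoImplicit false
set_option linter.style.haveILetI false
set_option linter.unusedSectionVars false
set_option maxHeartbeats 800000
set_option backward.isDefEq.respectTransparency false
universe u

open CategoryTheory CategoryTheory.Limits AlgebraicGeometry TopologicalSpace Opposite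

noncomputable section

namespace GrothLib.Tors7

open GrothLib.FMod7 GrothLib.FCat7

variable {X : Scheme.{u}} [IsLocallyNoetherian X] {𝓘 : X.IdealSheafData}
  {h : (FSch.completionAlong X 𝓘).IsFormal}

theorem onCompl_basicOpen {U : X.Opens} (g : Γ(X, U)) :
    onCompl (𝓘 := 𝓘) (X.basicOpen g) = sBasic (complFun h U g) := by
  show _ = ((FSch.completionAlong X 𝓘).X 0).basicOpen (lFun h U 0 g)
  rw [show lFun h U 0 g = _ from congrArg (fun r => r g) (proj_complFun h U 0)]
  refine Eq.trans ?_ (Scheme.basicOpen_appLE (FSch.completionToX X 𝓘 0) _ _ _ g).symm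
  rw [lvU_zero]
  exact (inf_eq_right.2 (onCompl_mono (X.basicOpen_le g))).symm

variable {M : FSch.ModF (FSch.completionAlong X 𝓘) h} (hT : FTors.IsTorsF (FSch.completionAlong X 𝓘) h M)
  [SheafOfModules.IsQuasicoherent.{u} M]
include hT

theorem isQuasicoherent_push : SheafOfModules.IsQuasicoherent.{u} ((complMor h).push.obj M) := by
  refine (QCoh.isQuasicoherent_iff_smulLift_smulSep ((complMor h).push.obj M)).2 fun U hU g => ?_
  have hW := isAffineOpen_onCompl (𝓘 := 𝓘) hU
  have e := onCompl_basicOpen (h := h) (𝓘 := 𝓘) g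
  let f := complFun h U g
  have hres : ∀ t : ModSite.sect M (onCompl U),
      sres M e.ge (sres M (onCompl_mono (X.basicOpen_le g)) t) = sres M (sBasic_le f) t := fun t => sres_sres _ _ t
  refine ⟨fun (s : ModSite.sect M (onCompl (X.basicOpen g))) => ?_, fun (t : ModSite.sect M (onCompl U)) ht => ?_⟩
  · obtain ⟨k, y, hy⟩ := tors_exists_pow_smul_eq_sres (hN (X := X) (𝓘 := 𝓘)) hT hW f (sres M e.ge s)
    refine ⟨k, y, ?_⟩
    show sres M (onCompl_mono (X.basicOpen_le g)) y =
      complFun h (X.basicOpen g) ((X.presheaf.map (homOfLE (X.basicOpen_le g)).op g) ^ k) • s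
    have hn : complFun h (X.basicOpen g) (X.presheaf.map (homOfLE (X.basicOpen_le g)).op g) =
        rRes (onCompl_mono (X.basicOpen_le g)) f :=
      ConcreteCategory.congr_hom ((complMor h).sharp.hom.naturality (homOfLE (X.basicOpen_le g)).op) g
    rw [map_pow, hn]
    have := congrArg (sres M e.le) hy
    rw [sres_sres] at this
    refine this.trans ((M.val.map_smul (homOfLE e.le).op _ _).trans ?_)
    show rRes e.le (rRes (sBasic_le f) f ^ k) • sres M e.le (sres M e.ge s) = _
    rw [sres_sres, sres_id, map_pow]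
    exact congrArg (fun r => r ^ k • s) (ores_ores _ _ f)
  · obtain ⟨k, hk⟩ := tors_exists_pow_smul_eq_zero (hN (X := X) (𝓘 := 𝓘)) hT hW t f (by
      rw [← hres t]
      have h0 : sres M (onCompl_mono (X.basicOpen_le g)) t = 0 := ht
      rw [h0]
      exact map_zero (M.val.map (homOfLE e.ge).op).hom)
    refine ⟨k, ?_⟩
    show complFun h U (g ^ k) • t = 0
    rw [map_pow]
    exact hk

theorem isCoh_push [FSch.IsCohF (FSch.completionAlong X 𝓘) h M] : Coh.IsCoh ((complMor h).push.obj M) := by
  have hq : SheafOfModules.IsQuasicoherent.{u} ((complMor h).push.obj M) := isQuasicoherent_push hT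
  refine ⟨hq, QCoh.isFiniteType_of_moduleFinite (X := X) ((complMor h).push.obj M) (fun U : X.affineOpens => U.1)
    (iSup_affineOpens_eq_top X) (fun U => U.2) fun U => ?_⟩
  classical
  have hW := isAffineOpen_onCompl (𝓘 := 𝓘) U.2
  obtain ⟨l, m, hm⟩ := Submodule.fg_iff_exists_fin_generating_family.1
    (moduleFinite_sect (F := M) (hN (X := X) (𝓘 := 𝓘)) hW).fg_top
  choose n hn using fun i => exists_killed_of_tors (hN (X := X) (𝓘 := 𝓘)) hT hW (m i)
  let K := Finset.univ.sup n
  refine ⟨⟨Finset.univ.image (fun i => (m i : ModSite.sect M (onCompl U.1))), eq_top_iff.2 fun s _ => ?_⟩⟩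
  let s' : ModSite.sect M (onCompl U.1) := s
  have hs : s' ∈ Submodule.span _ (Set.range m) := hm ▸ Submodule.mem_top
  obtain ⟨a, ha⟩ := (Submodule.mem_span_range_iff_exists_fun _).1 hs
  choose b hb using fun i => lFun_surjective h U.2 K (proj _ h (onCompl U.1) K (a i))
  have hk : ∀ i, a i • m i = complFun h U.1 (b i) • m i := fun i => by
    rw [← sub_eq_zero, ← sub_smul]
    have h1 := FCat7.Killed.smul_sres (FTors.KilledBy.mono (Finset.le_sup (Finset.mem_univ i)) (hn i)) le_rfl
      (a := a i - complFun h U.1 (b i)) (by rw [map_sub, sub_eq_zero]; exact (hb i).symm)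
    rwa [sres_id] at h1
  let m' : Fin l → Γ(((complMor h).push.obj M : X.Modules), U.1) := m
  have h2 : s = ∑ i, b i • m' i := ha.symm.trans (Finset.sum_congr rfl fun i _ => hk i)
  rw [h2]
  exact Submodule.sum_mem _ fun i _ => Submodule.smul_mem _ (b i)
    (Submodule.subset_span (Finset.mem_coe.2 (Finset.mem_image_of_mem _ (Finset.mem_univ i))))

end GrothLib.Tors7
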